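import Cfsg.Agent.H389.R.Def
import Cfsg.Agent.ClassicalGeometry.PSLTorus
import Cfsg.Agent.ClassicalGeometry.PSL2Basic
import Cfsg.Agent.S0806
import Cfsg.Agent.OddOrderLocal.CyclicSub

/-!
# S3530: core of Lemma X (helper220)

A subgroup of `L = PSL(2, u)` meeting each nonsplit torus in its subgroup of order `p` or in its subgroup of order `q`
(`p ≠ q` odd primes dividing `u + 1`) is `L`.
-/

set_option autoImplicit false
set_option linter.unusedSectionVars false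

namespace Cfsg.Agent.H389.RSq

open Subgroup
open Cfsg.Agent.H389.JSq (Has)

universe u v

namespace CoreX

section general

variable {L : Type*} [Group L] [Finite L]

theorem mem_normalizer_zpowers {y n : L} (h : n * y * n⁻¹ ∈ zpowers y) :
    n ∈ normalizer (zpowers y : Set L) := by
  have h1 : (zpowers y).map (MulAut.conj n).toMonoidHom ≤ zpowers y := by
    rw [MonoidHom.map_zpowers, zpowers_le]
    exact h
  have h2 : (zpowers y).map (MulAut.conj n).toMonoidHom = zpowers y := by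
    refine Subgroup.eq_of_le_of_card_ge h1 ?_
    rw [Nat.card_congr ((zpowers y).equivMapOfInjective (MulAut.conj n).toMonoidHom
      (MulAut.conj n).injective).toEquiv]
  rw [mem_normalizer_iff]
  intro z
  constructor
  · intro hz
    rw [← h2]
    exact ⟨z, hz, rfl⟩
  · intro hz
    rw [← h2] at hz
    obtain ⟨w, hw, hwz⟩ := hz
    have h3 : n * w * n⁻¹ = n * z * n⁻¹ := hwz
    have h4 : w = z := by simpa using h3
    rw [← h4]
    exact hw

/-- Counting the elements conjugating `y` into `D`. -/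
theorem card_mul_le {p : ℕ} {y : L} (hy : orderOf y = p) (D : Subgroup L)
    (hconj : ∀ a ∈ D, ∀ b ∈ D, orderOf a = p → orderOf b = p → ∃ d ∈ D, d * a * d⁻¹ ∈ zpowers b) :
    Nat.card {g : L // g * y * g⁻¹ ∈ D} * p ≤ Nat.card D * Nat.card (normalizer (zpowers y : Set L)) := by
  classical
  rcases isEmpty_or_nonempty {g : L // g * y * g⁻¹ ∈ D} with hemp | ⟨⟨g₀, hg₀⟩⟩
  · rw [Nat.card_of_isEmpty, zero_mul]
    exact Nat.zero_le _
  have hord : ∀ g : L, orderOf (g * y * g⁻¹) = p := fun g => by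
    rw [← hy]
    exact orderOf_injective (MulAut.conj g).toMonoidHom (MulAut.conj g).injective y
  have key : ∀ g : {g : L // g * y * g⁻¹ ∈ D}, ∃ d : D, ∃ n : normalizer (zpowers y : Set L),
      (g : L) = d * g₀ * n := by
    rintro ⟨g, hg⟩
    obtain ⟨d, hd, k, hk⟩ := hconj _ hg₀ _ hg (hord g₀) (hord g)
    have h1 : (g * y * g⁻¹) ^ k = g * y ^ k * g⁻¹ := by
      exact (map_zpow (MulAut.conj g) y k).symm
    have hk' : g * y ^ k * g⁻¹ = d * (g₀ * y * g₀⁻¹) * d⁻¹ := by rw [← h1]; exact hk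
    have h2 : (g⁻¹ * d * g₀) * y * (g⁻¹ * d * g₀)⁻¹ ∈ zpowers y := by
      refine ⟨k, ?_⟩
      change y ^ k = _
      have : y ^ k = g⁻¹ * (g * y ^ k * g⁻¹) * g := by group
      rw [this, hk']
      group
    refine ⟨⟨d, hd⟩, ⟨(g⁻¹ * d * g₀)⁻¹, inv_mem (mem_normalizer_zpowers h2)⟩, ?_⟩
    change g = d * g₀ * (g⁻¹ * d * g₀)⁻¹
    group
  choose d n hdn using key
  have hmem : ∀ t ∈ zpowers y, g₀ * t * g₀⁻¹ ∈ D := by
    rintro t ⟨k, rfl⟩
    have h1 : (g₀ * y * g₀⁻¹) ^ k = g₀ * y ^ k * g₀⁻¹ := (map_zpow (MulAut.conj g₀) y k).symm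
    change g₀ * y ^ k * g₀⁻¹ ∈ D
    rw [← h1]
    exact zpow_mem hg₀ k
  let φ : {g : L // g * y * g⁻¹ ∈ D} × zpowers y → D × normalizer (zpowers y : Set L) := fun x =>
    (d x.1 * ⟨g₀ * x.2 * g₀⁻¹, hmem _ x.2.2⟩,
      ⟨(x.2 : L)⁻¹, inv_mem (le_normalizer x.2.2)⟩ * n x.1)
  have hφ : ∀ x, ((φ x).1 : L) * g₀ * ((φ x).2 : L) = x.1 := by
    rintro ⟨g, t⟩
    change (d g : L) * (g₀ * (t : L) * g₀⁻¹) * g₀ * ((t : L)⁻¹ * (n g : L)) = g
    rw [hdn g]
    group
  have hinj : Function.Injective φ := by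
    intro x x' h
    have h1 : x.1 = x'.1 := by
      apply Subtype.ext
      rw [← hφ x, ← hφ x', h]
    obtain ⟨g, t⟩ := x
    obtain ⟨g', t'⟩ := x'
    change g = g' at h1
    subst h1
    have h2 := congrArg Prod.fst h
    change d g * _ = d g * _ at h2
    have h3 := congrArg (Subtype.val) (mul_left_cancel h2)
    change g₀ * (t : L) * g₀⁻¹ = g₀ * (t' : L) * g₀⁻¹ at h3
    have h4 : (t : L) = t' := by simpa using h3
    rw [Subtype.ext h4]
  have h5 := Nat.card_le_card_of_injective φ hinj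
  rw [Nat.card_prod, Nat.card_prod, Nat.card_zpowers, hy] at h5
  exact h5

/-- `p`-subgroups are cyclic if a cyclic subgroup has index prime to `p`. -/
theorem isCyclic_of_index {p : ℕ} [Fact p.Prime] {C : Subgroup L} (hC : IsCyclic C) (hi : ¬ p ∣ C.index)
    {T : Subgroup L} (hT : IsPGroup p T) :
    IsCyclic T ∧ ∃ k : L, ∀ t ∈ T, k * t * k⁻¹ ∈ C := by
  obtain ⟨Q⟩ : Nonempty (Sylow p C) := inferInstance
  have hQi : ¬ p ∣ ((Q : Subgroup C).map C.subtype).index := by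
    have h1 : ((Q : Subgroup C).map C.subtype).index = (Q : Subgroup C).index * C.index := by
      rw [← Subgroup.relIndex_mul_index (map_subtype_le (Q : Subgroup C)), Subgroup.relIndex,
        subgroupOf, comap_map_eq_self_of_injective C.subtype_injective]
    rw [h1, (Fact.out : p.Prime).dvd_mul, not_or]
    exact ⟨Q.not_dvd_index, hi⟩
  have hQp : IsPGroup p ((Q : Subgroup C).map C.subtype) := Q.isPGroup'.map _
  let Q' : Sylow p L := hQp.toSylow hQi
  have hQ' : (Q' : Subgroup L) = (Q : Subgroup C).map C.subtype := rfl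
  obtain ⟨P, hP⟩ := hT.exists_le_sylow
  obtain ⟨k, hk⟩ := MulAction.exists_smul_eq L P Q'
  have hcyc' : IsCyclic ((Q : Subgroup C).map C.subtype) :=
    Subgroup.isCyclic_of_le (map_subtype_le (Q : Subgroup C))
  have hcycQ : IsCyclic Q' := hcyc'
  have hcycP : IsCyclic P := isCyclic_of_surjective (Sylow.equiv Q' P) (Sylow.equiv Q' P).surjective
  refine ⟨Subgroup.isCyclic_of_le hP, k, fun t ht => ?_⟩
  have h1 : k * t * k⁻¹ ∈ (k • P : Sylow p L) := by
    change _ ∈ ((k • P : Sylow p L) : Subgroup L)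
    rw [Sylow.coe_subgroup_smul]
    exact Subgroup.smul_mem_pointwise_smul t (MulAut.conj k) _ (hP ht)
  rw [hk] at h1
  have h2 : k * t * k⁻¹ ∈ (Q' : Subgroup L) := h1
  rw [hQ'] at h2
  exact map_subtype_le _ h2

theorem exists_conj_zpowers {p : ℕ} (hp : p.Prime)
    (hcyc : ∀ T : Subgroup L, IsPGroup p T → IsCyclic T) (D : Subgroup L)
    {a b : L} (ha : a ∈ D) (hb : b ∈ D) (hao : orderOf a = p) (hbo : orderOf b = p) :
    ∃ d ∈ D, d * a * d⁻¹ ∈ zpowers b := by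
  have : Fact p.Prime := ⟨hp⟩
  have hz : ∀ c : D, orderOf (c : L) = p → IsPGroup p (zpowers c) := by
    intro c hc
    refine IsPGroup.of_card (n := 1) ?_
    rw [Nat.card_zpowers, pow_one, ← hc, Subgroup.orderOf_coe]
  obtain ⟨P, hP⟩ := (hz ⟨a, ha⟩ hao).exists_le_sylow
  obtain ⟨Q, hQ⟩ := (hz ⟨b, hb⟩ hbo).exists_le_sylow
  obtain ⟨d, hd⟩ := MulAction.exists_smul_eq D P Q
  refine ⟨d, d.2, ?_⟩
  have hQc : IsCyclic ((Q : Subgroup D).map D.subtype) := hcyc _ (Q.isPGroup'.map _)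
  have haP : (⟨a, ha⟩ : D) ∈ P := hP (mem_zpowers _)
  have hbQ : (⟨b, hb⟩ : D) ∈ Q := hQ (mem_zpowers _)
  have h1 : d * ⟨a, ha⟩ * d⁻¹ ∈ (d • P : Sylow p D) := by
    change _ ∈ ((d • P : Sylow p D) : Subgroup D)
    rw [Sylow.coe_subgroup_smul]
    exact Subgroup.smul_mem_pointwise_smul _ (MulAut.conj d) _ haP
  rw [hd] at h1
  have hx : (d : L) * a * (d : L)⁻¹ ∈ (Q : Subgroup D).map D.subtype := ⟨d * ⟨a, ha⟩ * d⁻¹, h1, rfl⟩
  have hy : b ∈ (Q : Subgroup D).map D.subtype := ⟨⟨b, hb⟩, hbQ, rfl⟩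
  have hxo : orderOf ((d : L) * a * (d : L)⁻¹) = p := by
    rw [← hao]
    exact orderOf_injective (MulAut.conj (d : L)).toMonoidHom (MulAut.conj (d : L)).injective a
  have h3 : zpowers ((d : L) * a * (d : L)⁻¹) = zpowers b := by
    refine Cfsg.Agent.OddOrderLocal.CyclicSub.eq_of_card_eq_of_le_cyclic hQc (zpowers_le.2 hx) (zpowers_le.2 hy) ?_
    rw [Nat.card_zpowers, Nat.card_zpowers, hxo, hbo]
  rw [← h3]
  exact mem_zpowers _

/-- The normalizer of a subgroup of order `p`. -/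
theorem card_normalizer_le {p : ℕ} [hp : Fact p.Prime] {C H : Subgroup L} (hCH : C ≤ H) (hrel : C.relIndex H = 2)
    (hC : IsCyclic C) (hi : ¬ p ∣ C.index) (hTI : ∀ g, g ∉ H → ∀ x ∈ C, g⁻¹ * x * g ∈ C → x = 1)
    {y : L} (hy : orderOf y = p) : Nat.card (normalizer (zpowers y : Set L)) ≤ 2 * Nat.card C := by
  have hT : IsPGroup p (zpowers y) := by
    refine IsPGroup.of_card (n := 1) ?_
    rw [Nat.card_zpowers, pow_one, hy]
  obtain ⟨-, k, hk⟩ := isCyclic_of_index hC hi hT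
  have hcard : Nat.card H = 2 * Nat.card C := by
    rw [← Subgroup.relIndex_bot_left H, ← Subgroup.relIndex_mul_relIndex ⊥ C H bot_le hCH,
      Subgroup.relIndex_bot_left, hrel, mul_comm]
  rw [← hcard]
  have hy1 : y ≠ 1 := by
    rintro rfl
    rw [orderOf_one] at hy
    exact hp.out.one_lt.ne hy
  have hmem : ∀ n ∈ normalizer (zpowers y : Set L), k * n * k⁻¹ ∈ H := by
    intro n hn
    by_contra hcon
    have h1 : n⁻¹ * y * n ∈ zpowers y := by
      have h2 := (mem_normalizer_iff.1 (inv_mem hn) y).1 (mem_zpowers y)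
      rwa [inv_inv] at h2
    have h2 := hTI _ hcon (k * y * k⁻¹) (hk y (mem_zpowers y)) (by
      have h3 : (k * n * k⁻¹)⁻¹ * (k * y * k⁻¹) * (k * n * k⁻¹) = k * (n⁻¹ * y * n) * k⁻¹ := by group
      rw [h3]
      exact hk _ h1)
    exact hy1 (by simpa using h2)
  refine Nat.card_le_card_of_injective
    (fun n : normalizer (zpowers y : Set L) => (⟨k * n * k⁻¹, hmem n n.2⟩ : H)) ?_
  intro n n' h
  have h1 := congrArg Subtype.val h
  change k * (n : L) * k⁻¹ = k * (n' : L) * k⁻¹ at h1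
  exact Subtype.ext (by simpa using h1)

/-- The counting argument. -/
theorem eq_top_of_count {p q : ℕ} (hp : p.Prime) (hq : q.Prime) (hp2 : p ≠ 2) (hq2 : q ≠ 2) (hpq : p ≠ q)
    (hp5 : p ≠ 5) (hq5 : q ≠ 5) {C H : Subgroup L} (hCH : C ≤ H) (hrel : C.relIndex H = 2)
    (hC : IsCyclic C) (hip : ¬ p ∣ C.index) (hiq : ¬ q ∣ C.index)
    (hTI : ∀ g, g ∉ H → ∀ x ∈ C, g⁻¹ * x * g ∈ C → x = 1)
    {D : Subgroup L} (hD : Nat.card C ≤ D.index) {a b : L} (ha : orderOf a = p) (hb : orderOf b = q)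
    (hab : ∀ g : L, g * a * g⁻¹ ∈ D ∨ g * b * g⁻¹ ∈ D) : False := by
  classical
  have : Fact p.Prime := ⟨hp⟩
  have : Fact q.Prime := ⟨hq⟩
  have h1 := card_mul_le ha D (fun x hx y hy hxo hyo => exists_conj_zpowers hp
    (fun T hT => (isCyclic_of_index hC hip hT).1) D hx hy hxo hyo)
  have h2 := card_mul_le hb D (fun x hx y hy hxo hyo => exists_conj_zpowers hq
    (fun T hT => (isCyclic_of_index hC hiq hT).1) D hx hy hxo hyo)
  have h3 := card_normalizer_le hCH hrel hC hip hTI ha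
  have h4 := card_normalizer_le hCH hrel hC hiq hTI hb
  have h5 : Nat.card L ≤ Nat.card {g : L // g * a * g⁻¹ ∈ D} + Nat.card {g : L // g * b * g⁻¹ ∈ D} := by
    rw [← Nat.card_sum]
    refine Nat.card_le_card_of_surjective
      (Sum.elim (fun x : {g : L // g * a * g⁻¹ ∈ D} => (x : L)) (fun x : {g : L // g * b * g⁻¹ ∈ D} => (x : L))) ?_
    intro g
    rcases hab g with h | h
    · exact ⟨Sum.inl ⟨g, h⟩, rfl⟩
    · exact ⟨Sum.inr ⟨g, h⟩, rfl⟩
  have h6 := D.card_mul_index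
  set A := Nat.card {g : L // g * a * g⁻¹ ∈ D}
  set B := Nat.card {g : L // g * b * g⁻¹ ∈ D}
  set n := Nat.card L
  set d := Nat.card D
  set c := Nat.card C
  have hd : 0 < d := Nat.card_pos
  have hc : 0 < c := Nat.card_pos
  -- `p q n ≤ q d (2c) + p d (2c)`, `d c ≤ n`
  have e1 : A * p ≤ d * (2 * c) := h1.trans (Nat.mul_le_mul_left _ h3)
  have e2 : B * q ≤ d * (2 * c) := h2.trans (Nat.mul_le_mul_left _ h4)
  have e3 : d * c ≤ n := by
    rw [← h6]
    exact Nat.mul_le_mul_left _ hD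
  have e4 : p * q * n ≤ 2 * (p + q) * n := by
    calc p * q * n ≤ p * q * (A + B) := Nat.mul_le_mul_left _ h5
      _ = q * (A * p) + p * (B * q) := by ring
      _ ≤ q * (d * (2 * c)) + p * (d * (2 * c)) :=
          Nat.add_le_add (Nat.mul_le_mul_left _ e1) (Nat.mul_le_mul_left _ e2)
      _ = 2 * (p + q) * (d * c) := by ring
      _ ≤ 2 * (p + q) * n := Nat.mul_le_mul_left _ e3
  have hn : 0 < n := Nat.card_pos
  have e5 : p * q ≤ 2 * (p + q) := Nat.le_of_mul_le_mul_right e4 hn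
  have hp3 : 3 ≤ p := by
    have := hp.two_le
    omega
  have hq3 : 3 ≤ q := by
    have := hq.two_le
    omega
  have hp' : p = 3 ∨ 7 ≤ p := by
    by_contra hcon
    have : p = 4 ∨ p = 6 := by omega
    rcases this with rfl | rfl <;> revert hp <;> decide
  have hq' : q = 3 ∨ 7 ≤ q := by
    by_contra hcon
    have : q = 4 ∨ q = 6 := by omega
    rcases this with rfl | rfl <;> revert hq <;> decide
  rcases hp' with rfl | hp' <;> rcases hq' with rfl | hq'
  · exact hpq rfl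
  · omega
  · omega
  · nlinarith

end general

/-- The statement for `PSL(2, F)`. -/
theorem psl_eq_top {F : Type*} [Field F] [Fintype F]
    (h5 : ¬ 5 ∣ Nat.card (Matrix.ProjectiveSpecialLinearGroup (Fin 2) F))
    (hidx : ∀ D : Subgroup (Matrix.ProjectiveSpecialLinearGroup (Fin 2) F), D ≠ ⊤ → Fintype.card F + 1 ≤ D.index)
    {p q : ℕ} (hp : p.Prime) (hq : q.Prime) (hp2 : p ≠ 2) (hq2 : q ≠ 2)
    (hpq : p ≠ q) (hpu : p ∣ Fintype.card F + 1) (hqu : q ∣ Fintype.card F + 1)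
    {D : Subgroup (Matrix.ProjectiveSpecialLinearGroup (Fin 2) F)}
    {a b : Matrix.ProjectiveSpecialLinearGroup (Fin 2) F} (ha : orderOf a = p) (hb : orderOf b = q)
    (hab : ∀ g, g * a * g⁻¹ ∈ D ∨ g * b * g⁻¹ ∈ D) : D = ⊤ := by
  by_contra hD
  obtain ⟨C, H, hCH, hrel, hC, hcard, -, hTI⟩ := ClassicalGeometry.PSLTorus.exists_psl_torus F
  have hcL := ClassicalGeometry.PSL2Basic.card_PSL2_gcd (F := F)
  have hq1 : 1 < Fintype.card F := Fintype.one_lt_card
  set u := Fintype.card F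
  have hg : Nat.gcd 2 (u - 1) ∣ u + 1 := by
    have h1 : Nat.gcd 2 (u - 1) ∣ 2 := Nat.gcd_dvd_left _ _
    have h2 : Nat.gcd 2 (u - 1) ∣ u - 1 := Nat.gcd_dvd_right _ _
    have h3 := Nat.dvd_add h2 h1
    have h4 : u - 1 + 2 = u + 1 := by omega
    rwa [h4] at h3
  obtain ⟨m, hm⟩ := hg
  have hg0 : 0 < Nat.gcd 2 (u - 1) := Nat.gcd_pos_of_pos_left _ (by norm_num)
  have hcm : Nat.card C = m := by
    rw [hcard, hm, Nat.mul_div_cancel_left _ hg0]
  have hm0 : 0 < m := by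
    rw [← hcm]
    exact Nat.card_pos
  have hindex : C.index = u * (u - 1) := by
    have h1 := C.card_mul_index
    rw [hcm] at h1
    have h2 : u ^ 2 - 1 = (u - 1) * (u + 1) := by
      obtain ⟨k, hk⟩ : ∃ k, u = k + 1 := ⟨u - 1, by omega⟩
      rw [hk]
      have : (k + 1) ^ 2 = k * (k + 1 + 1) + 1 := by ring
      rw [this]
      simp
    rw [h2, ← h1] at hcL
    have h3 : m * C.index * Nat.gcd 2 (u - 1) = (Nat.gcd 2 (u - 1) * m) * C.index := by ring
    rw [h3, hm] at hcL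
    have h4 : Nat.gcd 2 (u - 1) * m * C.index = Nat.gcd 2 (u - 1) * m * (u * (u - 1)) := by
      rw [hcL]; ring
    exact Nat.eq_of_mul_eq_mul_left (Nat.mul_pos hg0 hm0) h4
  have hni : ∀ r : ℕ, r.Prime → r ≠ 2 → r ∣ u + 1 → ¬ r ∣ C.index := by
    intro r hr hr2 hru h
    rw [hindex, hr.dvd_mul] at h
    rcases h with h | h
    · have h1 := (Nat.dvd_add_right h).1 hru
      exact hr.one_lt.ne' (Nat.dvd_one.1 h1)
    · have h1 : r ∣ (u + 1) - (u - 1) := Nat.dvd_sub hru h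
      have h2 : u + 1 - (u - 1) = 2 := by omega
      rw [h2] at h1
      exact hr2 ((Nat.prime_dvd_prime_iff_eq hr Nat.prime_two).1 h1)
  have hp5 : p ≠ 5 := by
    rintro rfl
    exact h5 (ha ▸ orderOf_dvd_natCard a)
  have hq5 : q ≠ 5 := by
    rintro rfl
    exact h5 (hb ▸ orderOf_dvd_natCard b)
  refine eq_top_of_count hp hq hp2 hq2 hpq hp5 hq5 hCH hrel hC (hni p hp hp2 hpu) (hni q hq hq2 hqu) hTI
    (D := D) ?_ ha hb hab
  rw [hcm]
  refine le_trans ?_ (hidx D hD)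
  rw [hm]
  exact Nat.le_mul_of_pos_left _ hg0

end CoreX

variable {s f : ℕ} {L : Type u} [Group L] [Finite L]

theorem IsL2.eq_top_of_torus (h : IsL2 s f L) {p q : ℕ} (hp : p.Prime) (hq : q.Prime) (hp2 : p ≠ 2) (hq2 : q ≠ 2)
    (hpq : p ≠ q) (hpu : p ∣ s ^ f + 1) (hqu : q ∣ s ^ f + 1) {x : L} (hx : orderOf x = p * q) {C : Subgroup L}
    (hC : ∀ g : L, g * x ^ p * g⁻¹ ∈ C ∨ g * x ^ q * g⁻¹ ∈ C) : C = ⊤ := by
  obtain ⟨hs, F, _, _, hF, ⟨e⟩⟩ := h.psl
  have h5 : ¬ 5 ∣ Nat.card (Matrix.ProjectiveSpecialLinearGroup (Fin 2) F) := by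
    rw [← Nat.card_congr e.toEquiv]
    exact h.five
  have hu : s ^ f ∉ ({2, 3, 5, 7, 9, 11} : Finset ℕ) := by
    intro hmem
    rcases h.type with ⟨rfl, h3⟩ | ⟨-, -, h3⟩
    · have h4 : 2 ^ 3 ≤ 2 ^ f := Nat.pow_le_pow_right (by norm_num) h3
      have h6 : 2 ∣ 2 ^ f := dvd_pow_self 2 (by omega)
      simp only [Finset.mem_insert, Finset.mem_singleton] at hmem
      omega
    · simp only [Finset.mem_insert, Finset.mem_singleton] at hmem
      omega
  have hidx := (Cfsg.Agent.S0806.result (F := F) hF hu).1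
  rw [← hF] at hpu hqu hidx
  have ho : ∀ y : L, orderOf (e y) = orderOf y := fun y => orderOf_injective e.toMonoidHom e.injective y
  have hxq : orderOf (e (x ^ q)) = p := by
    rw [ho, orderOf_pow_of_dvd hq.ne_zero (hx ▸ dvd_mul_left q p), hx, Nat.mul_div_cancel _ hq.pos]
  have hxp : orderOf (e (x ^ p)) = q := by
    rw [ho, orderOf_pow_of_dvd hp.ne_zero (hx ▸ dvd_mul_right p q), hx, Nat.mul_div_cancel_left _ hp.pos]
  have hmain := CoreX.psl_eq_top h5 hidx hq hp hq2 hp2 hpq.symm hqu hpu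
    (D := C.map e.toMonoidHom) hxp hxq (fun g => by
      obtain ⟨g, rfl⟩ := e.surjective g
      rcases hC g with h1 | h1
      · left
        exact ⟨_, h1, by simp⟩
      · right
        exact ⟨_, h1, by simp⟩)
  rw [eq_top_iff]
  intro y _
  have h1 : e y ∈ C.map e.toMonoidHom := by
    rw [hmain]
    exact mem_top _
  obtain ⟨z, hz, hze⟩ := h1
  rwa [← e.injective hze]

end Cfsg.Agent.H389.RSq
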